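import Cfsg.Agent.Mrg.Omega.NO3b.FPB.Cen_m3
import Cfsg.Agent.Mrg.Omega.All.HOneKer_m3
import Cfsg.Agent.Mrg.Omega.Spread.ElatOf_m3
import Cfsg.Agent.Mrg.Omega.NO1.Sym.EndOne_m3
import Cfsg.Agent.Mrg.Omega.NOThreeL.VF.Base_m3
import Mathlib
import Cfsg.Agent.FastGrp
import Cfsg.Agent.Prune
set_option linter.all false

section
prune_inst 0x7f00000000000000000000000000000000000000000000000000000000000000000000000000000000000000000000000000000000000000000000000000000000000000000000000000000000000000003fffffffffffffffffffffffffffbeffbdffffffff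

-- part: Mrg/Omega/NOThreeL/VF/EqNat
section
set_option linter.all false
open scoped Cfsg.Agent.FastGrp


/-!
# THEOREM VF, (2)-(5) for a sum of natural `SL₂(F)`-modules
-/

set_option autoImplicit false

namespace Cfsg.Agent.Omega.NOThreeL.VF.Q

open Subgroup Cfsg Cfsg.Agent.Omega.FFThm Cfsg.Agent.ZN Cfsg.Agent.ZN.ChoiceBase Cfsg.Agent.Omega.IId
open Cfsg.Agent.Lib.SL2Mat
open Cfsg.Agent.Omega.NatPair (ap ap_mul ap_one ap_inv_ap ap_ap_inv ext2 ap_zero' ap_one')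

universe u

variable {G : Type u} [Group G] {F : Type} [Field F] {T P : Subgroup G} {k : ℕ}
  (M : NatK F T P (zl T P) ⊥ k)

section act

variable {M}

/-- The coordinates of `[g, v]`. -/
theorem e_k {g v : G} (hg : g ∈ P) (hv : v ∈ zl T P) {A : Fin k → Matrix.SpecialLinearGroup (Fin 2) F}
    (hA : ActsSL M.e (zl T P) ⊥ g A) (i : Fin k) : M.e (Q.k g v) i = ap (A i) (M.e v i) - M.e v i := by
  rw [k_def, M.mul _ (cj_mem hg hv) _ (inv_mem hv), Pi.add_apply, hA.1 v hv i, e_inv M hv, Pi.neg_apply,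
    sub_eq_add_neg]

theorem k_mem {g v : G} (hg : g ∈ P) (hv : v ∈ zl T P) : Q.k g v ∈ zl T P :=
  mul_mem (cj_mem hg hv) (inv_mem hv)

theorem k_eq_one_iff {g v : G} (hg : g ∈ P) (hv : v ∈ zl T P) {A : Fin k → Matrix.SpecialLinearGroup (Fin 2) F}
    (hA : ActsSL M.e (zl T P) ⊥ g A) : Q.k g v = 1 ↔ ∀ i, ap (A i) (M.e v i) = M.e v i := by
  rw [← e_eq_zero M (k_mem hg hv)]
  constructor
  · intro h i
    have := congrFun h i
    rw [e_k hg hv hA, Pi.zero_apply, sub_eq_zero] at this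
    exact this
  · intro h
    funext i
    rw [e_k hg hv hA, h i, sub_self]
    rfl

/-- Two elements with the same action on `V` differ by an element of `C(V)`. -/
theorem mem_cent_of_acts {g h : G} (hg : g ∈ P) (hh : h ∈ P) {A : Fin k → Matrix.SpecialLinearGroup (Fin 2) F}
    (hA : ActsSL M.e (zl T P) ⊥ g A) (hB : ActsSL M.e (zl T P) ⊥ h A) {v : G} (hv : v ∈ zl T P) :
    Q.k (g⁻¹ * h) v = 1 := by
  rw [k_eq_one_iff (mul_mem (inv_mem hg) hh) hv (acts_mul hh (acts_inv hg hA) hB)]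
  intro i
  rw [Pi.mul_apply, Pi.inv_apply, inv_mul_cancel, ap_one]

end act

section root

variable [CharP F 2] [DecidableEq (Fin k)]

omit [CharP F 2] in
/-- The coordinates of `[a b, v]`. -/
theorem e_root {i₀ : Fin k} {a : F → G} (haP : ∀ b, a b ∈ P)
    (ha : ∀ b, ActsSL M.e (zl T P) ⊥ (a b) fun i => up ((Pi.single i₀ b : Fin k → F) i)) (b : F) {v : G}
    (hv : v ∈ zl T P) (i : Fin k) :
    M.e (Q.k (a b) v) i 0 = (Pi.single i₀ b : Fin k → F) i * M.e v i 1 ∧ M.e (Q.k (a b) v) i 1 = 0 := by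
  rw [e_k (haP b) hv (ha b) i, Pi.sub_apply, Pi.sub_apply, ap_zero', ap_one']
  simp only [up_00, up_01, up_10, up_11]
  exact ⟨by ring, by ring⟩

omit [CharP F 2] in
theorem e_root_same {i₀ : Fin k} {a : F → G} (haP : ∀ b, a b ∈ P)
    (ha : ∀ b, ActsSL M.e (zl T P) ⊥ (a b) fun i => up ((Pi.single i₀ b : Fin k → F) i)) (b : F) {v : G}
    (hv : v ∈ zl T P) : M.e (Q.k (a b) v) i₀ 0 = b * M.e v i₀ 1 := by
  rw [(e_root M haP ha b hv i₀).1, Pi.single_eq_same]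

omit [CharP F 2] in
theorem root_eq_one {i₀ : Fin k} {a : F → G} (haP : ∀ b, a b ∈ P)
    (ha : ∀ b, ActsSL M.e (zl T P) ⊥ (a b) fun i => up ((Pi.single i₀ b : Fin k → F) i)) (b : F) {v : G}
    (hv : v ∈ zl T P) : Q.k (a b) v = 1 ↔ b * M.e v i₀ 1 = 0 := by
  rw [← e_root_same M haP ha b hv]
  constructor
  · intro h
    rw [h, e_one]; rfl
  · intro h
    rw [← e_eq_zero M (k_mem (haP b) hv)]
    funext i
    apply ext2
    · rw [(e_root M haP ha b hv i).1]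
      by_cases hi : i = i₀
      · subst hi
        rw [e_root_same M haP ha b hv] at h
        rw [Pi.single_eq_same, h]; rfl
      · rw [Pi.single_eq_of_ne hi, zero_mul]; rfl
    · rw [(e_root M haP ha b hv i).2]; rfl

omit [CharP F 2] in
/-- An element of `V` such that the coordinate `(i₀, 1)` of all its conjugates vanishes is trivial. -/
theorem eq_one_of_ker (TP : T ≤ P) (i₀ : Fin k) {u : G} (hu : u ∈ zl T P)
    (h : ∀ p ∈ P, M.e (p * u * p⁻¹) i₀ 1 = 0) : u = 1 := by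
  obtain ⟨ω, hω, hωA⟩ := M.lift (Function.update 1 i₀ (wm 1 one_ne_zero))
  have h1 : ∀ p ∈ P, M.e (p * u * p⁻¹) i₀ = 0 := by
    intro p hp
    have h2 := h (ω * p) (mul_mem hω hp)
    have e : ω * p * u * (ω * p)⁻¹ = ω * (p * u * p⁻¹) * ω⁻¹ := by group
    rw [e, hωA.1 _ (cj_mem hp hu) i₀, Function.update_self, ap_one', wm_10, wm_11] at h2
    apply ext2
    · simpa using h2
    · exact h p hp
  rw [← e_eq_zero M hu]
  funext j
  obtain ⟨t, ht, h3⟩ := M.trans j i₀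
  exact (h3 u hu).1 (h1 t (TP ht))

/-- The root group of the factor `i₀`. -/
structure RG (A : Subgroup G) (i₀ : Fin k) (a : F → G) (ω : G) : Prop where
  mem : ∀ b, a b ∈ A
  acts : ∀ b, ActsSL M.e (zl T P) ⊥ (a b) fun i => up ((Pi.single i₀ b : Fin k → F) i)
  wP : ω ∈ P
  wA : ActsSL M.e (zl T P) ⊥ ω (Function.update 1 i₀ (wm 1 one_ne_zero))

omit [CharP F 2] in
theorem rootM {M₀ W A : Subgroup G} (s : Sit M₀ W (zl T P)) (PM : P ≤ M₀) {i₀ : Fin k} {a : F → G} {ω : G}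
    (R : RG M A i₀ a ω) (hA : A ≤ P) (hsplit : ∀ w ∈ W, ∃ v ∈ zl T P, v⁻¹ * w ∈ centralizer (A : Set G)) :
    RootM M₀ W (zl T P) F a (ω * a 1 * ω⁻¹) fun v => M.e v i₀ 1 := by
  have haP : ∀ b, a b ∈ P := fun b => hA (R.mem b)
  have haW : ∀ b, ∀ w ∈ W, Q.k (a b) w ∈ zl T P := by
    intro b w hw
    obtain ⟨v, hv, hc⟩ := hsplit w hw
    have e : w = v * (v⁻¹ * w) := by group
    have h1 : Q.k (a b) (v⁻¹ * w) = 1 := k_eq_one.2 (mem_centralizer_iff.1 hc _ (R.mem b))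
    rw [e, s.k_mul_right (PM (haP b)) (s.VW hv) (W.mul_mem (W.inv_mem (s.VW hv)) hw), h1, mul_one]
    exact k_mem (haP b) hv
  have hlP : ω * a 1 * ω⁻¹ ∈ P := mul_mem (mul_mem R.wP (haP 1)) (inv_mem R.wP)
  refine
  { mem := fun b => PM (haP b)
    aW := haW
    lM := PM hlP
    lW := fun w hw => ?_
    f_mul := fun u hu v hv => by
      rw [M.mul u hu v hv]; rfl
    add := fun b b' v hv => ?_
    zero := fun v hv h b => (root_eq_one M haP R.acts b hv).2 (by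
      have h' : M.e v i₀ 1 = 0 := h
      rw [h', mul_zero])
    inj := fun b hb v hv h => by
      rcases mul_eq_zero.1 ((root_eq_one M haP R.acts b hv).1 h) with h1 | h1
      · exact absurd h1 hb
      · exact h1
    disj := fun b c v hv v' hv' h => ?_ }
  · have e : w = ω * (ω⁻¹ * w * ω) * ω⁻¹ := by group
    rw [e, k_cj]
    refine cj_mem R.wP (haW 1 _ ?_)
    have := s.cj_mem (M₀.inv_mem (PM R.wP)) hw
    rwa [inv_inv] at this
  · refine e_inj M (k_mem (haP _) hv) (mul_mem (k_mem (haP _) hv) (k_mem (haP _) hv)) ?_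
    rw [M.mul _ (k_mem (haP _) hv) _ (k_mem (haP _) hv)]
    funext i
    rw [Pi.add_apply]
    apply ext2
    · rw [Pi.add_apply, (e_root M haP R.acts _ hv i).1, (e_root M haP R.acts _ hv i).1,
        (e_root M haP R.acts _ hv i).1, Pi.single_add, Pi.add_apply]
      ring
    · rw [Pi.add_apply, (e_root M haP R.acts _ hv i).2, (e_root M haP R.acts _ hv i).2,
        (e_root M haP R.acts _ hv i).2, add_zero]
  · -- the coordinates of `l [a c, v'] l⁻¹`
    have hu : Q.k (a c) v' ∈ zl T P := k_mem (haP c) hv'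
    obtain ⟨hu0, hu1⟩ := e_root M haP R.acts c hv' i₀
    have e : ω * a 1 * ω⁻¹ * Q.k (a c) v' * (ω * a 1 * ω⁻¹)⁻¹ =
        ω * (a 1 * (ω⁻¹ * Q.k (a c) v' * ω) * (a 1)⁻¹) * ω⁻¹ := by group
    have h1 : ω⁻¹ * Q.k (a c) v' * ω ∈ zl T P := cj_mem' R.wP hu
    have h2 : M.e (Q.k (a c) v') i₀ = ap (wm (1 : F) one_ne_zero) (M.e (ω⁻¹ * Q.k (a c) v' * ω) i₀) := by
      have := R.wA.1 _ h1 i₀
      rw [Function.update_self] at this
      rw [← this]
      congr 2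
      group
    -- `x = (0, - y)` where `y` is the coordinate
    have h3 : M.e (ω⁻¹ * Q.k (a c) v' * ω) i₀ 0 = 0 := by
      have h4 := congrFun h2 1
      rw [hu1, ap_one', wm_10, wm_11] at h4
      simpa using h4.symm
    have h5 : M.e (ω⁻¹ * Q.k (a c) v' * ω) i₀ 1 = M.e (Q.k (a c) v') i₀ 0 := by
      have h4 := congrFun h2 0
      rw [ap_zero', wm_00, wm_01] at h4
      rw [h4]; ring
    have h6 : M.e (a 1 * (ω⁻¹ * Q.k (a c) v' * ω) * (a 1)⁻¹) i₀ 0 = M.e (Q.k (a c) v') i₀ 0 := by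
      rw [(R.acts 1).1 _ h1 i₀, ap_zero', up_00, up_01, Pi.single_eq_same, h3, h5]
      ring
    have h7 : M.e (Q.k (a b) v) i₀ 1 = - M.e (Q.k (a c) v') i₀ 0 := by
      rw [h, e, R.wA.1 _ (cj_mem (haP 1) h1) i₀, Function.update_self, ap_one', wm_10, wm_11, h6]
      simp
    rw [(e_root M haP R.acts b hv i₀).2] at h7
    have h8 : M.e (Q.k (a c) v') i₀ 0 = 0 := by
      rw [zero_eq_neg] at h7
      exact h7
    rw [e_root_same M haP R.acts c hv'] at h8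
    have h9 := (root_eq_one M haP R.acts c hv').2 h8
    rw [h, h9]; group

variable {M}

/-- The element of `SL₂(F)^k` with one component. -/
abbrev upd (i₀ : Fin k) (A : Matrix.SpecialLinearGroup (Fin 2) F) :
    Fin k → Matrix.SpecialLinearGroup (Fin 2) F := Function.update 1 i₀ A

omit [CharP F 2] in
theorem upd_self {i₀ : Fin k} {A : Matrix.SpecialLinearGroup (Fin 2) F} : upd i₀ A i₀ = A :=
  Function.update_self _ _ _

omit [CharP F 2] in
theorem upd_ne {i₀ i : Fin k} {A : Matrix.SpecialLinearGroup (Fin 2) F} (h : i ≠ i₀) : upd i₀ A i = 1 :=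
  Function.update_of_ne h _ _

omit [CharP F 2] in
theorem up_single {i₀ : Fin k} (b : F) :
    (fun i => up ((Pi.single i₀ b : Fin k → F) i)) = upd i₀ (up b) := by
  funext i
  by_cases hi : i = i₀
  · subst hi
    rw [Pi.single_eq_same, upd_self]
  · rw [Pi.single_eq_of_ne hi, upd_ne hi, up_zero]

omit [CharP F 2] in
theorem update_mul_update {i₀ : Fin k} (A B : Matrix.SpecialLinearGroup (Fin 2) F) :
    upd i₀ A * upd i₀ B = upd i₀ (A * B) := by
  funext i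
  by_cases hi : i = i₀
  · subst hi
    rw [Pi.mul_apply, upd_self, upd_self, upd_self]
  · rw [Pi.mul_apply, upd_ne hi, upd_ne hi, upd_ne hi, mul_one]

omit [CharP F 2] in
theorem update_inv {i₀ : Fin k} (A : Matrix.SpecialLinearGroup (Fin 2) F) :
    (upd i₀ A)⁻¹ = upd i₀ A⁻¹ := by
  funext i
  by_cases hi : i = i₀
  · subst hi
    rw [Pi.inv_apply, upd_self, upd_self]
  · rw [Pi.inv_apply, upd_ne hi, upd_ne hi, inv_one]

variable [Finite G] [Finite F] {M₀ W A : Subgroup G} {i₀ : Fin k} {a : F → G} {ω : G}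

omit [CharP F 2] in
/-- `W = V C_W(SL₂(F)^{i₀})` -/
theorem split_grp (c : Core T P M₀ W (zl T P) F a (ω * a 1 * ω⁻¹) fun v => M.e v i₀ 1)
    (R : RG M A i₀ a ω) (hA : A ≤ P) (hsplit : ∀ w ∈ W, ∃ v ∈ zl T P, v⁻¹ * w ∈ centralizer (A : Set G))
    {w : G} (hw : w ∈ W) : ∃ v ∈ zl T P, v⁻¹ * w ∈ centralizer (grp M {i₀} : Set G) := by
  have haP : ∀ b, a b ∈ P := fun b => hA (R.mem b)
  obtain ⟨v₁, hv₁, hc₁⟩ := hsplit w hw
  obtain ⟨v₂, hv₂, hc₂⟩ := hsplit _ (c.cjW' R.wP hw)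
  have hv₂' : ω * v₂ * ω⁻¹ ∈ zl T P := cj_mem R.wP hv₂
  obtain ⟨v, hv, hev⟩ := M.surj fun _ => ![M.e (ω * v₂ * ω⁻¹) i₀ 0, M.e v₁ i₀ 1]
  have hev' : M.e v i₀ = ![M.e (ω * v₂ * ω⁻¹) i₀ 0, M.e v₁ i₀ 1] := congrFun hev i₀
  have huW : v⁻¹ * w ∈ W := W.mul_mem (W.inv_mem (c.VW hv)) hw
  refine ⟨v, hv, ?_⟩
  -- the upper root group
  have h1 : ∀ b, Q.k (a b) (v⁻¹ * w) = 1 := by
    intro b
    have e : v⁻¹ * w = (v⁻¹ * v₁) * (v₁⁻¹ * w) := by group
    have hx : v⁻¹ * v₁ ∈ zl T P := mul_mem (inv_mem hv) hv₁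
    have hy : v₁⁻¹ * w ∈ W := W.mul_mem (W.inv_mem (c.VW hv₁)) hw
    have h2 : Q.k (a b) (v₁⁻¹ * w) = 1 := k_eq_one.2 (mem_centralizer_iff.1 hc₁ _ (R.mem b))
    have h3 : Q.k (a b) (v⁻¹ * v₁) = 1 := by
      rw [root_eq_one M haP R.acts b hx, M.mul _ (inv_mem hv) _ hv₁, e_inv M hv, Pi.add_apply,
        Pi.add_apply, Pi.neg_apply, Pi.neg_apply, hev']
      simp
    rw [e, c.k_mul_right (c.PM (haP b)) (c.VW hx) hy, h2, h3, one_mul]
  -- the lower root group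
  have h2 : ∀ b, Q.k (ω * a b * ω⁻¹) (v⁻¹ * w) = 1 := by
    intro b
    have hx : v⁻¹ * (ω * v₂ * ω⁻¹) ∈ zl T P := mul_mem (inv_mem hv) hv₂'
    have hx' : ω⁻¹ * (v⁻¹ * (ω * v₂ * ω⁻¹)) * ω ∈ zl T P := cj_mem' R.wP hx
    have e : v⁻¹ * w = ω * ((ω⁻¹ * (v⁻¹ * (ω * v₂ * ω⁻¹)) * ω) * (v₂⁻¹ * (ω⁻¹ * w * ω))) * ω⁻¹ := by group
    have hy : v₂⁻¹ * (ω⁻¹ * w * ω) ∈ W := W.mul_mem (W.inv_mem (c.VW hv₂)) (c.cjW' R.wP hw)
    have h3 : Q.k (a b) (v₂⁻¹ * (ω⁻¹ * w * ω)) = 1 := k_eq_one.2 (mem_centralizer_iff.1 hc₂ _ (R.mem b))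
    have h4 : Q.k (a b) (ω⁻¹ * (v⁻¹ * (ω * v₂ * ω⁻¹)) * ω) = 1 := by
      rw [root_eq_one M haP R.acts b hx']
      have h5 := R.wA.1 _ hx' i₀
      rw [Function.update_self] at h5
      have h6 := congrFun h5 0
      rw [ap_zero', wm_00, wm_01, zero_mul, zero_add, one_mul] at h6
      have e2 : ω * (ω⁻¹ * (v⁻¹ * (ω * v₂ * ω⁻¹)) * ω) * ω⁻¹ = v⁻¹ * (ω * v₂ * ω⁻¹) := by group
      rw [← h6, e2, M.mul _ (inv_mem hv) _ hv₂', e_inv M hv, Pi.add_apply,
        Pi.add_apply, Pi.neg_apply, Pi.neg_apply, hev']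
      simp
    rw [e, k_cj, c.k_mul_right (c.PM (haP b)) (c.VW hx') hy, h3, h4]
    group
  -- all of `SL₂(F)`
  have h3 : ∀ b, ∃ h ∈ P, Q.k h (v⁻¹ * w) = 1 ∧ ActsSL M.e (zl T P) ⊥ h (upd i₀ (up b)) :=
    fun b => ⟨a b, haP b, h1 b, by rw [← up_single]; exact R.acts b⟩
  have h4 : ∀ b, ∃ h ∈ P, Q.k h (v⁻¹ * w) = 1 ∧ ActsSL M.e (zl T P) ⊥ h (upd i₀ (lo b)) := by
    intro b
    refine ⟨ω * a (-b) * ω⁻¹, mul_mem (mul_mem R.wP (haP _)) (inv_mem R.wP), h2 _, ?_⟩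
    have h5 := acts_mul (inv_mem R.wP) (acts_mul (haP (-b)) R.wA (R.acts (-b))) (acts_inv R.wP R.wA)
    rw [up_single, update_inv, update_mul_update, update_mul_update, wm_up, mul_inv_cancel_right] at h5
    simpa using h5
  have hm : ∀ {x y : G}, x ∈ P → y ∈ P → Q.k x (v⁻¹ * w) = 1 → Q.k y (v⁻¹ * w) = 1 →
      Q.k (x * y) (v⁻¹ * w) = 1 := by
    intro x y _ _ hx hy
    rw [k_eq_one] at hx hy ⊢
    rw [mul_assoc, hy, ← mul_assoc, hx, mul_assoc]
  rw [mem_centralizer_iff]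
  rintro g ⟨hg, B, hB, hB'⟩
  obtain ⟨x, y, z, t, hxyzt⟩ := exists_up_lo (B i₀)
  obtain ⟨h5, h5P, h5c, h5A⟩ := h3 x
  obtain ⟨h6, h6P, h6c, h6A⟩ := h4 y
  obtain ⟨h7, h7P, h7c, h7A⟩ := h3 z
  obtain ⟨h8, h8P, h8c, h8A⟩ := h4 t
  have hBe : B = upd i₀ (up x * lo y * up z * lo t) := by
    funext i
    by_cases hi : i = i₀
    · subst hi
      rw [upd_self, hxyzt]
    · rw [upd_ne hi, hB' i (by simpa using hi)]
  have hP' : h5 * h6 * h7 * h8 ∈ P := mul_mem (mul_mem (mul_mem h5P h6P) h7P) h8P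
  have hact := acts_mul h8P (acts_mul h7P (acts_mul h6P h5A h6A) h7A) h8A
  rw [update_mul_update, update_mul_update, update_mul_update, ← hBe] at hact
  have hcc : Q.k (h5 * h6 * h7 * h8) (v⁻¹ * w) = 1 :=
    hm (mul_mem (mul_mem h5P h6P) h7P) h8P (hm (mul_mem h5P h6P) h7P (hm h5P h6P h5c h6c) h7c) h8c
  have hdd : Q.k ((h5 * h6 * h7 * h8)⁻¹ * g) (v⁻¹ * w) = 1 :=
    c.comm (c.PM (mul_mem (inv_mem hP') hg)) (fun v hv => mem_cent_of_acts hP' hg hact hB hv) huW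
  have hee := hm hP' (mul_mem (inv_mem hP') hg) hcc hdd
  rw [mul_inv_cancel_left] at hee
  exact k_eq_one.1 hee

end root

/-! ### The end -/

open Classical in
/-- **THEOREM VF, (2)-(5), natural `SL₂(F)`-modules.** -/
theorem nat_le [Finite G] [Finite F] [CharP F 2] (M : NatKM F T P (zl T P) ⊥ k) {M₀ W A : Subgroup G}
    (s : Sit M₀ W (zl T P)) (hT : IsPGroup 2 T) (TP : T ≤ P) (PM : P ≤ M₀) (WT : W ≤ T) (no : NoOverM W M₀)
    (noP : NoOverM (zl T P) P) (hAT : A ≤ T) (off : OffM W A) (hne : ¬ A ≤ centralizer (zl T P : Set G))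
    (hAC : A ⊓ centralizer (zl T P : Set G) ≤ centralizer (W : Set G)) : W ≤ zl T P := by
  have offV := s.offM_of off hne hAC
  have hAP : A ≤ P := hAT.trans TP
  have hsplit : ∀ w ∈ W, ∃ v ∈ zl T P, v⁻¹ * w ∈ centralizer (A : Set G) := fun w hw =>
    s.exists_split off hAC (noP A hAP offV.toElemM) hw
  obtain ⟨I, hI1, hI2⟩ := M.offM A hAT offV
  obtain ⟨i₀, hi₀⟩ : I.Nonempty := by
    by_contra hcon
    rw [Set.not_nonempty_iff_eq_empty] at hcon
    subst hcon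
    apply hne
    intro x hx
    obtain ⟨b, hb, hact⟩ := hI1 x hx
    rw [mem_centralizer_iff]
    intro v hv
    have h1 : Q.k x v = 1 := by
      rw [k_eq_one_iff (M := M.toNatK) (hAP hx) hv hact]
      intro i
      rw [hb i (Set.notMem_empty i), up_zero, ap_one]
    exact (k_eq_one.1 h1).symm
  have hex : ∀ b : F, ∃ x ∈ A, ActsSL M.e (zl T P) ⊥ x fun i => up ((Pi.single i₀ b : Fin k → F) i) := by
    intro b
    refine hI2 (Pi.single i₀ b) fun i hi => ?_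
    have hne' : i ≠ i₀ := fun h => hi (by rw [h]; exact hi₀)
    rw [Pi.single_eq_of_ne hne']
  choose a haA haact using hex
  obtain ⟨ω, hω, hωA⟩ := M.lift (Function.update 1 i₀ (wm 1 one_ne_zero))
  have R : RG M.toNatK A i₀ a ω := ⟨haA, haact, hω, hωA⟩
  have c : Core T P M₀ W (zl T P) F a (ω * a 1 * ω⁻¹) fun v => M.e v i₀ 1 :=
    { toSit := s
      two := hT
      TP := TP
      PM := PM
      nV := MinSimple.VModule.le_normalizer_zl T P
      WT := WT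
      zV := MinSimple.VModule.zc_le_zl T P
      no := no
      one_lt := Finite.one_lt_card
      root := rootM M.toNatK s PM R hAP hsplit
      aP := fun b => hAP (haA b)
      lP := mul_mem (mul_mem hω (hAP (haA 1))) (inv_mem hω)
      ker := fun u hu h => eq_one_of_ker M.toNatK TP i₀ hu h }
  refine c.le (fun i => grp M.toNatK {i}) (fun i w hw => ?_) (fun y hy => ?_) (fun p hp b => ?_)
  · obtain ⟨t, ht, htf⟩ := exists_trans M.toNatK TP i₀ i
    obtain ⟨v, hv, hc⟩ := split_grp c R hAP hsplit (c.cjW' (TP ht) hw)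
    refine ⟨t * v * t⁻¹, c.cjV (TP ht) hv, ?_⟩
    have hg : cj t (grp M.toNatK {i₀}) = grp M.toNatK {i} := by
      rw [conj_grp M.toNatK (TP ht), Set.image_singleton, (sg_eq_iff M.toNatK (TP ht)).2 htf]
    rw [mem_centralizer_iff]
    intro x hx
    rw [← hg] at hx
    have hx' : t⁻¹ * x * t ∈ grp M.toNatK {i₀} := mem_cj.1 hx
    have h1 := mem_centralizer_iff.1 hc _ hx'
    calc x * ((t * v * t⁻¹)⁻¹ * w) = t * (t⁻¹ * x * t * (v⁻¹ * (t⁻¹ * w * t))) * t⁻¹ := by group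
      _ = t * (v⁻¹ * (t⁻¹ * w * t) * (t⁻¹ * x * t)) * t⁻¹ := by rw [h1]
      _ = (t * v * t⁻¹)⁻¹ * w * x := by group
  · obtain ⟨v, hv, hev⟩ := M.surj fun i => M.e (y i) i
    refine ⟨v, hv, fun i => ?_⟩
    have h1 : v⁻¹ * y i ∈ part M.toNatK {i}ᶜ := by
      refine ⟨mul_mem (inv_mem hv) (hy i), fun j hj => ?_⟩
      have hj' : j = i := by simpa using hj
      rw [hj', M.mul _ (inv_mem hv) _ (hy i), e_inv M.toNatK hv, Pi.add_apply, Pi.neg_apply, hev,
        neg_add_cancel]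
    rw [mem_centralizer_iff]
    intro g hg
    exact grp_comm M.toNatK disjoint_compl_right hg h1
  · refine ⟨sg M.toNatK hp i₀, ?_⟩
    have h1 : a b ∈ grp M.toNatK {i₀} := by
      refine ⟨hAP (haA b), _, haact b, fun i hi => ?_⟩
      rw [Pi.single_eq_of_ne (by simpa using hi), up_zero]
    have h2 := conj_grp M.toNatK hp {i₀}
    rw [Set.image_singleton] at h2
    rw [← h2, mem_cj]
    have e : p⁻¹ * (p * a b * p⁻¹) * p = a b := by group
    rw [e]
    exact h1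

end Cfsg.Agent.Omega.NOThreeL.VF.Q

private theorem dce_ec0681981414 : _root_.True := by
  try have : _root_.True := by simp only [_root_.Cfsg.Agent.Omega.NOThreeL.VF.Q.upd.congr_simp]
  exact _root_.True.intro
end

-- part: Mrg/Omega/NO3S/BetaFF/Act
section
set_option linter.all false
open scoped Cfsg.Agent.FastGrp


/-!
# GammaFF, BETA for FF lines: the active types, all FF modules (helper284 #19509 (0))

`Act S P V F` : `P ∈ P*(S)` with `C_L(O²(P)) = 1`, `L = V_P ≤ V`; `Flat.Hyp V F`, `P` normalises `V`, `W = WW V F ≤ S`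
moves `L`, `L ≤ E = EE V F`, and `[L, L^x] = 1` for `x ∈ C_G(F)`.

* `offM` : `W` offends on `L`;
* `exact` : `|W : C_W(L)| = |L : C_L(W)|`;
* `cent_EB` : `C_E(C_W(L)) = L F`; `not_BB_le` : `C_W(L) ≰ N`; `cent_VB` : `C_V(C_W(L)) = L F`;
* `cent_VQ` : `C_V(O₂(P)) = L`.
-/

set_option autoImplicit false
set_option linter.unusedSectionVars false

namespace Cfsg.Agent.Omega.NO3S.BetaFF

open Subgroup Cfsg Cfsg.Agent.ZN Cfsg.Agent.Omega.MinPar Cfsg.Agent.Omega.FFThm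
open Cfsg.Agent.Omega.NOne
open Cfsg.Agent.Omega.NOne.NearFF (c c_def)
open Cfsg.Agent.Omega.FrameFF (cv)
open Cfsg.Agent.ZN.ChoiceSit (Syl)
open scoped Pointwise

universe u

variable {G : Type u} [Group G] [Finite G]

theorem rne (H K : Subgroup G) : H.relIndex K ≠ 0 := index_ne_zero_of_finite

/-- The situation: `W_F ≤ S` moves the FF line `V_P ≤ E_F`. -/
structure Act (S : Sylow 2 G) (P V F : Subgroup G) : Prop where
  char2 : IsCharacteristicTwoType G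
  par : IsParS (S : Subgroup G) P
  cv : cv (S : Subgroup G) P = ⊥
  hyp : Flat.Hyp V F
  PV : P ≤ normalizer (V : Set G)
  LE : zl (S : Subgroup G) P ≤ Flat.EE V F
  WS : Flat.WW V F ≤ (S : Subgroup G)
  mov : ¬ Flat.WW V F ≤ centralizer (zl (S : Subgroup G) P : Set G)
  lines : ∀ x ∈ centralizer (F : Set G),
    zl (S : Subgroup G) P ≤ centralizer ((MulAut.conj x • zl (S : Subgroup G) P : Subgroup G) : Set G)

/-- `B1 = C_W(L)` -/
abbrev BB (V F L : Subgroup G) : Subgroup G := Flat.WW V F ⊓ centralizer (L : Set G)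

namespace Act

variable {S : Sylow 2 G} {P V F : Subgroup G} (h : Act S P V F)
include h

theorem SP : (S : Subgroup G) ≤ P := h.par.le

theorem WP : Flat.WW V F ≤ P := h.WS.trans h.SP

theorem LV : zl (S : Subgroup G) P ≤ V := h.LE.trans inf_le_left

theorem PL : P ≤ normalizer (zl (S : Subgroup G) P : Set G) := le_normalizer_zl _ _

theorem elemM : ElemM (zl (S : Subgroup G) P) (Flat.WW V F) := by
  have h1 := h.hyp.elemM_W
  exact ⟨fun a ha => centralizer_le h.LV (h1.sq a ha), fun a ha b hb => centralizer_le h.LV (h1.comm a ha b hb)⟩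

/-- `W` is an offender on `L`. -/
theorem offM : OffM (zl (S : Subgroup G) P) (Flat.WW V F) where
  toElemM := h.elemM
  ne := h.mov
  le := relIndex_le_iff.2 (h.hyp.off_of_le_all h.LE)

theorem ff (hFF : StmtM.{u}) : NoOverM (zl (S : Subgroup G) P) P ∧ ConclM (S : Subgroup G) P :=
  hFF G S P (syl_of_sylow S h.SP) h.par.toIsMinPar (h.par.isLoc.char2 S h.char2) ⟨_, h.WP, h.offM⟩

/-- `W` is an exact offender. -/
theorem exact (hFF : StmtM.{u}) : (centralizer (zl (S : Subgroup G) P : Set G)).relIndex (Flat.WW V F) =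
    (centralizer (Flat.WW V F : Set G)).relIndex (zl (S : Subgroup G) P) := by
  apply le_antisymm
  · have h1 := (h.ff hFF).1 _ h.WP h.elemM
    exact relIndex_le_iff.1 h1
  · exact h.hyp.off_of_le_all h.LE

/-- `C_L(W) = L ∩ F` -/
theorem inf_cent : zl (S : Subgroup G) P ⊓ centralizer (Flat.WW V F : Set G) = zl (S : Subgroup G) P ⊓ F := by
  apply le_antisymm
  · rintro x ⟨h1, h2⟩
    refine ⟨h1, ?_⟩
    have h3 : x ∈ V ⊓ centralizer (Flat.WW V F : Set G) := ⟨h.LV h1, h2⟩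
    rwa [h.hyp.cent_VW] at h3
  · rintro x ⟨h1, h2⟩
    refine ⟨h1, ?_⟩
    have h3 : x ∈ V ⊓ centralizer (Flat.WW V F : Set G) := by
      rw [h.hyp.cent_VW]; exact h2
    exact h3.2

theorem relIndex_F : (centralizer (Flat.WW V F : Set G)).relIndex (zl (S : Subgroup G) P) =
    F.relIndex (zl (S : Subgroup G) P) := by
  rw [← inf_relIndex_left, h.inf_cent, inf_relIndex_left]

theorem BB_comm_F {b f : G} (hb : b ∈ Flat.WW V F) (hf : f ∈ F) : b * f = f * b :=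
  (Flat.Hyp.F_comm hf (Flat.Hyp.W_le_X hb)).symm

/-- **(0)** `C_E(C_W(L)) = L F` -/
theorem cent_EB (hFF : StmtM.{u}) :
    Flat.EE V F ⊓ centralizer (BB V F (zl (S : Subgroup G) P) : Set G) = zl (S : Subgroup G) P ⊔ F := by
  set L := zl (S : Subgroup G) P with hL
  set E0 : Subgroup G := Flat.EE V F ⊓ centralizer (BB V F L : Set G) with hE0
  have hFE : F ≤ E0 := by
    refine le_inf h.hyp.F_le_E fun f hf => mem_centralizer_iff.2 fun b hb => ?_
    exact h.BB_comm_F hb.1 hf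
  have hLE : L ≤ E0 := by
    refine le_inf h.LE fun l hl => mem_centralizer_iff.2 fun b hb => ?_
    exact (mem_centralizer_iff.1 hb.2 l hl).symm
  have hsup : L ⊔ F ≤ E0 := sup_le hLE hFE
  refine (le_antisymm hsup ?_).symm
  have h1 : F.relIndex E0 ≤ F.relIndex L := by
    have h2 := h.hyp.off_all hFE inf_le_left
    have h3 : (centralizer (E0 : Set G)).relIndex (Flat.WW V F) ≤ (centralizer (L : Set G)).relIndex (Flat.WW V F) := by
      rw [← inf_relIndex_right (centralizer (L : Set G)), ← inf_relIndex_right (centralizer (E0 : Set G))]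
      refine relIndex_le_of_le_left ?_ (rne _ _)
      rintro b ⟨hb1, hb2⟩
      exact ⟨mem_centralizer_iff.2 fun e he => (mem_centralizer_iff.1 he.2 b ⟨hb2, hb1⟩).symm, hb2⟩
    rw [h.exact hFF, h.relIndex_F] at h3
    exact h2.trans h3
  have h2 : F.relIndex (L ⊔ F) * (L ⊔ F).relIndex E0 = F.relIndex E0 := relIndex_mul_relIndex _ _ _ le_sup_right hsup
  have h3 : F.relIndex L ≤ F.relIndex (L ⊔ F) := relIndex_le_of_le_right le_sup_left (rne _ _)
  have h4 := Nat.pos_of_ne_zero (rne F L)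
  have h5 : (L ⊔ F).relIndex E0 ≤ 1 := by
    by_contra hcon
    push Not at hcon
    have h6 := Nat.mul_le_mul h3 hcon
    omega
  have h6 := rne (L ⊔ F) E0
  exact relIndex_eq_one.1 (by omega)

/-- **(0)** `C_W(L) ≰ N` -/
theorem not_BB_le (hFF : StmtM.{u}) : ¬ BB V F (zl (S : Subgroup G) P) ≤ Flat.NN V F := by
  set L := zl (S : Subgroup G) P with hL
  intro hcon
  -- `E = L F`
  have h1 : Flat.EE V F ≤ L ⊔ F := by
    rw [← h.cent_EB hFF]
    refine le_inf le_rfl fun e he => mem_centralizer_iff.2 fun b hb => ?_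
    exact (mem_centralizer_iff.1 (hcon hb).2 e he).symm
  obtain ⟨w, hw, hwE⟩ := h.hyp.exists_not_mem
  obtain ⟨x, hx, hb, -, -⟩ := h.hyp.exists_near hw hwE
  apply h.mov
  intro s hs
  obtain ⟨f, hf, hfn⟩ := h.hyp.exists_conjE_mul hx hb hs
  have e : s = f * (f⁻¹ * s) := by group
  rw [e]
  refine mul_mem ?_ (centralizer_le h.LE hfn.2)
  -- `f ∈ (L F)^x`
  have h2 : MulAut.conj x • Flat.EE V F ≤ MulAut.conj x • (L ⊔ F) := Cfsg.Agent.Omega.NoFF.Basic.conj_le_iff.2 h1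
  have h3 : MulAut.conj x • (L ⊔ F) = MulAut.conj x • L ⊔ MulAut.conj x • F := smul_sup _ _ _
  rw [h3, Flat.conj_eq_of_cent hx] at h2
  have h4 : MulAut.conj x • L ⊔ F ≤ centralizer (L : Set G) := by
    refine sup_le ?_ ?_
    · exact le_centralizer_iff.1 (h.lines x hx)
    · exact (h.hyp.comm.trans (centralizer_le h.LV)).trans' h.hyp.F_le_V
  exact h4 (h2 hf)

/-- **(0)** `C_V(C_W(L)) = L F` -/
theorem cent_VB (hFF : StmtM.{u}) :
    V ⊓ centralizer (BB V F (zl (S : Subgroup G) P) : Set G) = zl (S : Subgroup G) P ⊔ F := by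
  rw [← h.cent_EB hFF]
  refine le_antisymm (fun v hv => ⟨?_, hv.2⟩) (inf_le_inf_right _ inf_le_left)
  by_contra hvE
  apply h.not_BB_le hFF
  intro b hb
  rw [← h.hyp.c_mem_F_iff hv.1 hvE hb.1, c_def]
  have h1 := mem_centralizer_iff.1 hv.2 b hb
  rw [← h1, mul_inv_cancel_right, mul_inv_cancel]
  exact one_mem _

/-! ### `C_V(O₂(P)) = L` -/

theorem o2_eq : (S : Subgroup G) ⊓ centralizer (zl (S : Subgroup G) P : Set G) = o2 P :=
  h.par.inf_centralizer S h.char2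

theorem BB_le_o2 : BB V F (zl (S : Subgroup G) P) ≤ o2 P := by
  rw [← h.o2_eq]
  exact inf_le_inf_right _ h.WS

theorem L_le_zc : zl (S : Subgroup G) P ≤ zc (o2 P) := h.par.isLoc.zl_le S h.char2

/-- `C_V(O₂(P))` -/
abbrev CQ (P V : Subgroup G) : Subgroup G := V ⊓ centralizer (o2 P : Set G)

theorem L_le_CQ : zl (S : Subgroup G) P ≤ CQ P V :=
  le_inf h.LV fun _ hl => mem_centralizer_iff.2 fun q hq => ((mem_zc.1 (h.L_le_zc hl)).2.1 q hq)

theorem CQ_le (hFF : StmtM.{u}) : CQ P V ≤ zl (S : Subgroup G) P ⊔ F := by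
  rw [← h.cent_VB hFF]
  exact inf_le_inf_left _ (centralizer_le h.BB_le_o2)

theorem CQ_le_EE (hFF : StmtM.{u}) : CQ P V ≤ Flat.EE V F := by
  refine (h.CQ_le hFF).trans ?_
  rw [← h.cent_EB hFF]
  exact inf_le_left

theorem P_norm_CQ : P ≤ normalizer (CQ P V : Set G) := by
  intro g hg
  have h1 := h.PV hg
  have h2 : g ∈ normalizer (centralizer (o2 P : Set G) : Set G) :=
    Flat.normalizer_le_normalizer_centralizer _ (le_normalizer_o2 P hg)
  rw [mem_normalizer_iff] at h1 h2 ⊢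
  intro x
  exact and_congr (h1 x) (h2 x)

/-- an element of `P` which centralises `L` and whose square centralises `C_V(Q)` centralises `C_V(Q)` -/
theorem cent_of_sq {x : G} (hx : x ∈ P) (hxL : x ∈ centralizer (zl (S : Subgroup G) P : Set G))
    (hsq : x ^ 2 ∈ centralizer (CQ P V : Set G)) : x ∈ centralizer (CQ P V : Set G) := by
  obtain ⟨a, m, hm, ho⟩ : ∃ a m : ℕ, Odd m ∧ orderOf x = 2 ^ a * m := by
    obtain ⟨a, m, hm, ho⟩ := Nat.exists_eq_two_pow_mul_odd (orderOf_pos x).ne'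
    exact ⟨a, m, hm, ho⟩
  -- `x ^ m` is a 2-element
  have hpm : (x ^ m) ^ 2 ^ a = 1 := by rw [← pow_mul, mul_comm, ← ho, pow_orderOf_eq_one]
  have hm2 : x ^ m ∈ o2 P := by
    have hp : IsPGroup 2 (zpowers (x ^ m)) := by
      intro y
      obtain ⟨n, hn⟩ := mem_zpowers_iff.1 y.2
      refine ⟨a, Subtype.ext ?_⟩
      rw [SubgroupClass.coe_pow, ← hn, ← zpow_natCast, ← zpow_mul, mul_comm, zpow_mul, zpow_natCast, hpm, one_zpow]
      rfl
    obtain ⟨g, hg, h1⟩ := NOThreeL.VF.exists_conj_le S h.SP hp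
      (by rw [zpowers_le]; exact pow_mem hx m)
    have h2 := h1 _ (mem_zpowers _)
    have h3 : g * x ^ m * g⁻¹ ∈ o2 P := by
      rw [← h.o2_eq]
      refine ⟨h2, ?_⟩
      have h4 : g ∈ normalizer (centralizer (zl (S : Subgroup G) P : Set G) : Set G) :=
        Flat.normalizer_le_normalizer_centralizer _ (h.PL hg)
      exact (mem_normalizer_iff.1 h4 _).1 (pow_mem hxL m)
    exact (mem_normalizer_iff.1 (le_normalizer_o2 P hg) _).2 h3
  have h1 : x ^ m ∈ centralizer (CQ P V : Set G) := by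
    rw [mem_centralizer_iff]
    intro y hy
    exact (mem_centralizer_iff.1 hy.2 _ hm2).symm
  obtain ⟨j, hj⟩ := hm
  have e : x = x ^ m * ((x ^ 2) ^ j)⁻¹ := by
    rw [hj, ← pow_mul, pow_succ', mul_inv_cancel_right]
  rw [e]
  exact mul_mem h1 (inv_mem (pow_mem hsq j))

/-- no over-offender on `C_V(Q)` -/
theorem noOver_CQ (hFF : StmtM.{u}) : NoOverM (CQ P V) P := by
  intro A hA hE
  have hEL : ElemM (zl (S : Subgroup G) P) A :=
    ⟨fun a ha => centralizer_le h.L_le_CQ (hE.sq a ha), fun a ha b hb => centralizer_le h.L_le_CQ (hE.comm a ha b hb)⟩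
  have h1 := (h.ff hFF).1 A hA hEL
  rw [relIndex_le_iff] at h1 ⊢
  have h2 : (centralizer (CQ P V : Set G)).relIndex A = (centralizer (zl (S : Subgroup G) P : Set G)).relIndex A := by
    rw [← inf_relIndex_right (centralizer (CQ P V : Set G)),
      ← inf_relIndex_right (centralizer (zl (S : Subgroup G) P : Set G))]
    congr 1
    refine le_antisymm (inf_le_inf_right _ (centralizer_le h.L_le_CQ)) fun x hx => ⟨?_, hx.2⟩
    exact h.cent_of_sq (hA hx.2) hx.1 (hE.sq x hx.2)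
  rw [h2]
  exact h1.trans (relIndex_le_of_le_right h.L_le_CQ (rne _ _))

/-- **(0)** `C_V(O₂(P)) = L`. -/
theorem cent_VQ (hFF : StmtM.{u}) : CQ P V = zl (S : Subgroup G) P := by
  refine le_antisymm ?_ h.L_le_CQ
  have s : NOThreeL.VF.Q.Sit P (CQ P V) (zl (S : Subgroup G) P) :=
    { ab := fun x hx y hy => h.hyp.V_comm hx.1 hy.1
      sq := fun x hx => h.hyp.sq' hx.1
      VW := h.L_le_CQ
      nW := h.P_norm_CQ }
  have hWS : CQ P V ≤ (S : Subgroup G) :=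
    (h.CQ_le_EE hFF).trans (Flat.Hyp.E_le_W.trans h.WS)
  have hmovCQ : ¬ Flat.WW V F ≤ centralizer (CQ P V : Set G) := fun h1 => h.mov (h1.trans (centralizer_le h.L_le_CQ))
  have off : OffM (CQ P V) (Flat.WW V F) :=
    { sq := fun a ha => centralizer_le inf_le_left (h.hyp.elemM_W.sq a ha)
      comm := fun a ha b hb => centralizer_le inf_le_left (h.hyp.elemM_W.comm a ha b hb)
      ne := hmovCQ
      le := relIndex_le_iff.2 (h.hyp.off_of_le_all (h.CQ_le_EE hFF)) }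
  have hAC : Flat.WW V F ⊓ centralizer (zl (S : Subgroup G) P : Set G) ≤ centralizer (CQ P V : Set G) := by
    refine h.BB_le_o2.trans ?_
    intro q hq
    rw [mem_centralizer_iff]
    intro y hy
    exact (mem_centralizer_iff.1 hy.2 _ hq).symm
  have hcv := h.cv
  obtain ⟨hno, ⟨K, _, _, _, k, hk, ⟨M⟩⟩ | ⟨k, m, hk, hm, ⟨M⟩⟩⟩ := h.ff hFF
  · rw [hcv] at M
    exact NOThreeL.VF.Q.nat_le M s S.isPGroup' h.SP le_rfl hWS (h.noOver_CQ hFF) hno h.WS off h.mov hAC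
  · rw [hcv] at M
    exact NOThreeL.VF.Q.S.sym_le M (by omega) s S.isPGroup' h.SP le_rfl hWS (h.noOver_CQ hFF) hno h.WS off h.mov hAC

end Act

end Cfsg.Agent.Omega.NO3S.BetaFF
end

-- part: Mrg/Omega/NO3S/BetaFF/ActClaim
section
set_option linter.all false
open scoped Cfsg.Agent.FastGrp

-- merged: Cfsg.Agent.Omega.NO3S.BetaFF.ClaimA
section

/-!
THEOREM BETA-FF, CLAIM A (284 #19171 (2), #19509 (1)) by 569's argument #19664: type-free, no count.

`Cl P S MM Q V E F W B L R`: `L ≤ V`, `Q ⊴ P`, `MM` contains every proper subgroup of `P` over `S`,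
`[E, W] ≤ F`, `F` centralises `W`, `B ≤ W ∩ Q`, (a) `C_V(B) ≤ L F`, (b) `C_V(Q) ≤ L`,
`L` and `V` are `P`-invariant, `R` is a subgroup such that `C_R(W^h) = 1` for all `h ∈ P` with
`W^h` not in `MM`, and `R` contains no `P`-invariant subgroup
(`R = Z` with `C_Z(P) = 1`: `Cl.of_center`; or `R` = a root line).

`Cl.claim`: if `L ≤ LL ≤ V` is `S`-invariant, `[LL, Q] ≤ R` and `LL` is not inside `L`, then
`LL^g` is not inside `E` for some `g ∈ P` such that `W^(g⁻¹)` is not inside `MM`.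
-/

namespace Cfsg.Agent.Omega.NO3S.BetaFF.ClaimA

variable {G : Type*} [Group G]

/-- The data of CLAIM A without the subgroup `R`. -/
structure Cb (P S MM Q V E F W B L : Subgroup G) : Prop where
  S_le : S ≤ P
  /-- `MM` contains every proper subgroup of `P` over `S` -/
  max : ∀ H : Subgroup G, S ≤ H → H ≤ P → ¬ H ≤ MM → P ≤ H
  W_le : W ≤ P
  /-- `W` is moved out of `MM` by some element of `P` -/
  move : ∃ h ∈ P, ∃ w ∈ W, h * w * h⁻¹ ∉ MM
  Q_norm : ∀ g ∈ P, ∀ x ∈ Q, g * x * g⁻¹ ∈ Q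
  V_norm : ∀ g ∈ P, ∀ x ∈ V, g * x * g⁻¹ ∈ V
  L_norm : ∀ g ∈ P, ∀ x ∈ L, g * x * g⁻¹ ∈ L
  L_le : L ≤ V
  EW : ∀ e ∈ E, ∀ w ∈ W, w * e * w⁻¹ * e⁻¹ ∈ F
  FW : ∀ f ∈ F, ∀ w ∈ W, w * f = f * w
  B_Q : B ≤ Q
  B_W : B ≤ W
  /-- (a) -/
  a : ∀ x ∈ V, (∀ b ∈ B, b * x = x * b) → ∃ l ∈ L, ∃ f ∈ F, x = l * f
  /-- (b) -/
  b : ∀ x ∈ V, (∀ c ∈ Q, c * x = x * c) → x ∈ L

/-- The data of CLAIM A. -/
structure Cl (P S MM Q V E F W B L R : Subgroup G) : Prop extends Cb P S MM Q V E F W B L where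
  /-- `C_R(W^h) = 1` if `W^h` is not inside `MM` -/
  R_free : ∀ h ∈ P, (∃ w ∈ W, h * w * h⁻¹ ∉ MM) →
    ∀ r ∈ R, (∀ w ∈ W, (h * w * h⁻¹) * r = r * (h * w * h⁻¹)) → r = 1
  /-- `R` contains no `P`-invariant subgroup -/
  R_int : ∀ r ∈ R, (∀ p ∈ P, p * r * p⁻¹ ∈ R) → r = 1

variable {P S MM Q V E F W B L R : Subgroup G}

/-- The case `R = Z`: `S` centralises `Z` and `C_Z(P) = 1`. -/
theorem Cb.of_center (h : Cb P S MM Q V E F W B L) (hW : W ≤ S)
    (hS : ∀ z ∈ R, ∀ s ∈ S, s * z = z * s)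
    (hP : ∀ z ∈ R, (∀ p ∈ P, p * z = z * p) → z = 1) : Cl P S MM Q V E F W B L R := by
  have key : ∀ r ∈ R, ∀ x ∈ P, x ∉ MM → x * r = r * x → r = 1 := by
    intro r hr x hx hxM hxr
    refine hP r hr ?_
    have hle : P ≤ P ⊓ Subgroup.centralizer {r} := by
      refine h.max _ ?_ inf_le_left ?_
      · refine le_inf h.S_le ?_
        intro s hs
        rw [Subgroup.mem_centralizer_singleton_iff]
        exact hS r hr s hs
      · intro hle
        exact hxM (hle (Subgroup.mem_inf.mpr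
          ⟨hx, Subgroup.mem_centralizer_singleton_iff.mpr hxr⟩))
    intro p hp
    exact Subgroup.mem_centralizer_singleton_iff.mp (Subgroup.mem_inf.mp (hle hp)).2
  refine ⟨h, ?_, ?_⟩
  · rintro g hg ⟨w, hw, hwM⟩ r hr hc
    exact key r hr _ (P.mul_mem (P.mul_mem hg (h.W_le hw)) (P.inv_mem hg)) hwM (hc w hw)
  · intro r hr hc
    obtain ⟨g, hg, w, hw, hwM⟩ := h.move
    refine key r hr _ (P.mul_mem (P.mul_mem hg (h.W_le hw)) (P.inv_mem hg)) hwM ?_
    have h1 := hS _ (hc g⁻¹ (P.inv_mem hg)) w (hW hw)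
    have h2 : g * (w * (g⁻¹ * r * g⁻¹⁻¹)) * g⁻¹ = g * ((g⁻¹ * r * g⁻¹⁻¹) * w) * g⁻¹ := by rw [h1]
    calc g * w * g⁻¹ * r = g * (w * (g⁻¹ * r * g⁻¹⁻¹)) * g⁻¹ := by group
      _ = g * ((g⁻¹ * r * g⁻¹⁻¹) * w) * g⁻¹ := h2
      _ = r * (g * w * g⁻¹) := by group

/-- CLAIM A. -/
theorem Cl.claim (h : Cl P S MM Q V E F W B L R) {LL : Subgroup G} (hL : L ≤ LL) (hV : LL ≤ V)
    (hS : ∀ g ∈ S, ∀ x ∈ LL, g * x * g⁻¹ ∈ LL)
    (hQ : ∀ u ∈ LL, ∀ c ∈ Q, c * u * c⁻¹ * u⁻¹ ∈ R) (hne : ¬ LL ≤ L) :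
    ∃ g ∈ P, (∃ w ∈ W, g⁻¹ * w * g ∉ MM) ∧ ∃ u ∈ LL, g * u * g⁻¹ ∉ E := by
  by_contra hcon
  push Not at hcon
  -- (1) `[LL^g, B] = 1`
  have h1 : ∀ g ∈ P, (∃ w ∈ W, g⁻¹ * w * g ∉ MM) → ∀ u ∈ LL, ∀ w ∈ W,
      (g⁻¹ * w * g) * u * (g⁻¹ * w * g)⁻¹ ∈ LL := by
    rintro g hg ⟨w₀, hw₀, hM⟩ u hu w hw
    have hE : g * u * g⁻¹ ∈ E := hcon g hg ⟨w₀, hw₀, hM⟩ u hu
    have hx : g * u * g⁻¹ ∈ V := h.V_norm g hg u (hV hu)
    have hB : ∀ b ∈ B, b * (g * u * g⁻¹) = (g * u * g⁻¹) * b := by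
      intro b hb
      have hF := h.EW _ hE b (h.B_W hb)
      have hc : g⁻¹ * b * g ∈ Q := by
        have := h.Q_norm g⁻¹ (P.inv_mem hg) b (h.B_Q hb)
        rwa [inv_inv] at this
      have hR := hQ u hu _ hc
      have hr1 : (g⁻¹ * b * g) * u * (g⁻¹ * b * g)⁻¹ * u⁻¹ = 1 := by
        refine h.R_free g⁻¹ (P.inv_mem hg) ⟨w₀, hw₀, by rwa [inv_inv]⟩ _ hR ?_
        intro w' hw'
        have e := h.FW _ hF w' hw'
        have e2 : g⁻¹ * (w' * (b * (g * u * g⁻¹) * b⁻¹ * (g * u * g⁻¹)⁻¹)) * g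
          = g⁻¹ * ((b * (g * u * g⁻¹) * b⁻¹ * (g * u * g⁻¹)⁻¹) * w') * g := by rw [e]
        calc g⁻¹ * w' * g⁻¹⁻¹ * ((g⁻¹ * b * g) * u * (g⁻¹ * b * g)⁻¹ * u⁻¹)
            = g⁻¹ * (w' * (b * (g * u * g⁻¹) * b⁻¹ * (g * u * g⁻¹)⁻¹)) * g := by group
          _ = g⁻¹ * ((b * (g * u * g⁻¹) * b⁻¹ * (g * u * g⁻¹)⁻¹) * w') * g := e2
          _ = (g⁻¹ * b * g) * u * (g⁻¹ * b * g)⁻¹ * u⁻¹ * (g⁻¹ * w' * g⁻¹⁻¹) := by group
      have e3 : b * (g * u * g⁻¹) * b⁻¹ * (g * u * g⁻¹)⁻¹ = 1 := by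
        calc b * (g * u * g⁻¹) * b⁻¹ * (g * u * g⁻¹)⁻¹
            = g * ((g⁻¹ * b * g) * u * (g⁻¹ * b * g)⁻¹ * u⁻¹) * g⁻¹ := by group
          _ = 1 := by rw [hr1]; group
      have e4 := mul_inv_eq_one.mp e3
      exact mul_inv_eq_iff_eq_mul.mp e4
    obtain ⟨l, hl, f, hf, hlf⟩ := h.a _ hx hB
    have e5 : w * (g * u * g⁻¹) * w⁻¹ * (g * u * g⁻¹)⁻¹ = (w * l * w⁻¹) * l⁻¹ := by
      rw [hlf]
      have := h.FW f hf w hw
      calc w * (l * f) * w⁻¹ * (l * f)⁻¹ = w * l * (f * w⁻¹ * f⁻¹) * l⁻¹ := by group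
        _ = w * l * w⁻¹ * l⁻¹ := by
          have : f * w⁻¹ * f⁻¹ = w⁻¹ := by
            calc f * w⁻¹ * f⁻¹ = w⁻¹ * (w * f) * w⁻¹ * f⁻¹ := by group
              _ = w⁻¹ * (f * w) * w⁻¹ * f⁻¹ := by rw [this]
              _ = w⁻¹ := by group
          rw [this]
    have e6 : w * (g * u * g⁻¹) * w⁻¹ * (g * u * g⁻¹)⁻¹ ∈ L := by
      rw [e5]
      exact L.mul_mem (h.L_norm w (h.W_le hw) l hl) (L.inv_mem hl)
    have e7 : (g⁻¹ * w * g) * u * (g⁻¹ * w * g)⁻¹ * u⁻¹ ∈ L := by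
      have := h.L_norm g⁻¹ (P.inv_mem hg) _ e6
      have e8 : g⁻¹ * (w * (g * u * g⁻¹) * w⁻¹ * (g * u * g⁻¹)⁻¹) * g⁻¹⁻¹
        = (g⁻¹ * w * g) * u * (g⁻¹ * w * g)⁻¹ * u⁻¹ := by group
      rwa [e8] at this
    have := LL.mul_mem (hL e7) hu
    simpa only [mul_assoc, _root_.mul_inv_rev, _root_.inv_inv, _root_.inv_mul_cancel, _root_.mul_one] using this
  -- (2) `P` normalises `LL`
  have hPN : ∀ p ∈ P, ∀ u ∈ LL, p * u * p⁻¹ ∈ LL := by
    let N : Subgroup G :=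
      { carrier := {p | p ∈ P ∧ (∀ u ∈ LL, p * u * p⁻¹ ∈ LL) ∧ ∀ u ∈ LL, p⁻¹ * u * p ∈ LL}
        mul_mem' := by
          rintro a b ⟨ha, ha1, ha2⟩ ⟨hb, hb1, hb2⟩
          refine ⟨P.mul_mem ha hb, fun u hu => ?_, fun u hu => ?_⟩
          · have := ha1 _ (hb1 u hu)
            have e : a * (b * u * b⁻¹) * a⁻¹ = a * b * u * (a * b)⁻¹ := by group
            rwa [e] at this
          · have := hb2 _ (ha2 u hu)
            have e : b⁻¹ * (a⁻¹ * u * a) * b = (a * b)⁻¹ * u * (a * b) := by group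
            rwa [e] at this
        one_mem' := ⟨P.one_mem, fun u hu => by simpa using hu, fun u hu => by simpa using hu⟩
        inv_mem' := by
          rintro a ⟨ha, ha1, ha2⟩
          exact ⟨P.inv_mem ha, fun u hu => by simpa using ha2 u hu,
            fun u hu => by simpa only [_root_.inv_inv] using ha1 u hu⟩ }
    have hle : P ≤ N := by
      refine h.max N ?_ ?_ ?_
      · intro s hs
        refine ⟨h.S_le hs, hS s hs, fun u hu => ?_⟩
        have := hS s⁻¹ (S.inv_mem hs) u hu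
        simpa using this
      · rintro x ⟨hx, -, -⟩
        exact hx
      · intro hN
        obtain ⟨g, hg, w, hw, hwM⟩ := h.move
        refine hwM (hN ⟨P.mul_mem (P.mul_mem hg (h.W_le hw)) (P.inv_mem hg), ?_, ?_⟩)
        · intro u hu
          have := h1 g⁻¹ (P.inv_mem hg) ⟨w, hw, by simpa only [_root_.inv_inv] using hwM⟩ u hu w hw
          simpa only [_root_.mul_inv_rev, _root_.inv_inv] using this
        · intro u hu
          have := h1 g⁻¹ (P.inv_mem hg) ⟨w, hw, by simpa only [_root_.inv_inv] using hwM⟩ u hu w⁻¹ (W.inv_mem hw)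
          have e : (g⁻¹⁻¹ * w⁻¹ * g⁻¹) * u * (g⁻¹⁻¹ * w⁻¹ * g⁻¹)⁻¹
            = (g * w * g⁻¹)⁻¹ * u * (g * w * g⁻¹) := by group
          rwa [e] at this
    intro p hp u hu
    exact (hle hp).2.1 u hu
  -- (3) `Q` centralises `LL`
  apply hne
  intro u hu
  refine h.b u (hV hu) ?_
  intro c hc
  have hr : c * u * c⁻¹ * u⁻¹ = 1 := by
    refine h.R_int _ (hQ u hu c hc) ?_
    intro p hp
    have := hQ (p * u * p⁻¹) (hPN p hp u hu) (p * c * p⁻¹) (h.Q_norm p hp c hc)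
    have e : (p * c * p⁻¹) * (p * u * p⁻¹) * (p * c * p⁻¹)⁻¹ * (p * u * p⁻¹)⁻¹
      = p * (c * u * c⁻¹ * u⁻¹) * p⁻¹ := by group
    rwa [e] at this
  exact mul_inv_eq_iff_eq_mul.mp (mul_inv_eq_one.mp hr)

end Cfsg.Agent.Omega.NO3S.BetaFF.ClaimA

end

-- merged: Cfsg.Agent.Mrg.Omega.NO3S.BetaFF.ActClaim
section

section


/-!
# GammaFF, BETA for FF lines: CLAIM A for all FF types (helper284 #19509 (1), helper569 #19664)

* `Act.exists_cb` : the data `ClaimA.Cb` of CLAIM A, `MM` the maximal subgroup of `P` over `S`;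
* `Act.claimA` : `L ≤ LL ≤ V`, `S` normalises `LL`, `[LL, O₂(P)] ≤ Z`, `LL ≰ L` ⟹ some `LL^g ≰ E`, `g ∈ P`.
-/

set_option autoImplicit false
set_option linter.unusedSectionVars false

namespace Cfsg.Agent.Omega.NO3S.BetaFF

open Subgroup Cfsg Cfsg.Agent.ZN Cfsg.Agent.Omega.MinPar Cfsg.Agent.Omega.FFThm
open Cfsg.Agent.Omega.NOne
open Cfsg.Agent.Omega.NOne.NearFF (c c_def)
open Cfsg.Agent.Omega.FrameFF (cv)
open Cfsg.Agent.MinSimple.VModule (oddGen oddGen_le)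
open scoped Pointwise

universe u

variable {G : Type u} [Group G] [Finite G]

namespace Act

variable {S : Sylow 2 G} {P V F : Subgroup G} (h : Act S P V F)
include h

/-- Some conjugate of `W` is not contained in the maximal subgroup `MM` of `P` over `S`. -/
theorem exists_move {MM : Subgroup G} (hMP : MM < P)
    (hmax : ∀ K : Subgroup G, (S : Subgroup G) ≤ K → K < P → K ≤ MM) : ∃ g ∈ P, ∃ w ∈ Flat.WW V F, g * w * g⁻¹ ∉ MM := by
  by_contra hcon
  push Not at hcon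
  let N : Subgroup G := _root_.Subgroup.closure {x | ∃ g ∈ P, ∃ w ∈ Flat.WW V F, x = g * w * g⁻¹}
  have hNM : N ≤ MM := by
    rw [closure_le]
    rintro x ⟨g, hg, w, hw, rfl⟩
    exact hcon g hg w hw
  have hNn : P ≤ normalizer (N : Set G) := by
    have key : ∀ g ∈ P, ∀ x ∈ N, g * x * g⁻¹ ∈ N := by
      intro g hg x hx
      induction hx using closure_induction with
      | mem y hy =>
        obtain ⟨k, hk, w, hw, rfl⟩ := hy
        exact subset_closure ⟨g * k, mul_mem hg hk, w, hw, by group⟩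
      | one => rw [mul_one, mul_inv_cancel]; exact one_mem _
      | mul y z _ _ hy hz =>
        have e : g * (y * z) * g⁻¹ = (g * y * g⁻¹) * (g * z * g⁻¹) := by group
        rw [e]; exact mul_mem hy hz
      | inv y _ hy =>
        have e : g * y⁻¹ * g⁻¹ = (g * y * g⁻¹)⁻¹ := by group
        rw [e]; exact inv_mem hy
    intro g hg
    rw [mem_normalizer_iff]
    intro x
    refine ⟨key g hg x, fun hx => ?_⟩
    have h1 := key g⁻¹ (inv_mem hg) _ hx
    have e : g⁻¹ * (g * x * g⁻¹) * g⁻¹⁻¹ = x := by group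
    rwa [e] at h1
  have hSM : (S : Subgroup G) ≤ MM := hmax _ le_rfl (lt_of_le_of_ne h.SP h.par.toIsMinPar.ne)
  rcases h.par.toIsPar.sup_eq_or_inf_le S (hNM.trans hMP.le) hNn with h1 | h1
  · exact absurd (h1 ▸ sup_le hNM hSM : P ≤ MM) (not_le_of_gt hMP)
  · apply h.mov
    intro w hw
    have h2 : w ∈ o2 P := h1 ⟨h.WS hw, subset_closure ⟨1, one_mem _, w, hw, by group⟩⟩
    rw [← h.o2_eq] at h2
    exact h2.2

end Act

end Cfsg.Agent.Omega.NO3S.BetaFF

end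

section


/-!
# GammaFF, BETA for FF lines: `Act` from `Hyp S P` (leaf NO-3S)

* `zc_le_F` : `W_F ≤ S`, `Z ≤ V` ⟹ `Z ≤ F`;
* `le_EE_of_low` : `X ≤ V`, `X ≤ O₂(C_G(Z))`, `Z ≤ F` ⟹ `X ≤ E_F`;
* `Act.of_hyp` : `Hyp S P`, `V_P ≤ V`, `P ≤ N(V)`, `Flat.Hyp V F`, `W_F ≤ S`, `W_F ≰ O₂(P)` ⟹ `Act S P V F`.
-/

set_option autoImplicit false
set_option linter.unusedSectionVars false

namespace Cfsg.Agent.Omega.NO3S.BetaFF

open Subgroup Cfsg Cfsg.Agent.ZN Cfsg.Agent.Omega.MinPar Cfsg.Agent.Omega.FFThm Cfsg.Agent.Omega.FrameNOFF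
open Cfsg.Agent.Omega.NOne
open scoped Pointwise

universe u

variable {G : Type u} [Group G] [Finite G] {S : Sylow 2 G} {P V F : Subgroup G}

/-- `Z ≤ C_V(W_F) = F` if `W_F ≤ S`. -/
theorem zc_le_F (hf : Flat.Hyp V F) (hZ : zc (S : Subgroup G) ≤ V) (hW : Flat.WW V F ≤ (S : Subgroup G)) :
    zc (S : Subgroup G) ≤ F := by
  rw [← hf.cent_VW]
  refine le_inf hZ fun z hz => mem_centralizer_iff.2 fun w hw => ?_
  exact (ZN.mem_zc.1 hz).2.1 w (hW hw)

/-- A subgroup of `V` in `O₂(C_G(D))`, `D ≤ F`, is in `E_F`. -/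
theorem le_EE_of_low (hf : Flat.Hyp V F) {X D : Subgroup G} (hX : X ≤ V) (hD : D ≤ F)
    (hlow : X ≤ o2 (centralizer (D : Set G))) : X ≤ Flat.EE V F := by
  refine le_inf hX fun x hx => ?_
  have h1 : centralizer (F : Set G) ≤ centralizer (D : Set G) := centralizer_le hD
  exact Flat.o2_inf_le_o2 h1 ⟨hlow hx, hf.V_le_X (hX hx)⟩

/-- `Act S P V F` from the hypotheses of the leaf. -/
theorem Act.of_hyp (h : Hyp S P) (hf : Flat.Hyp V F) (hLV : zl (S : Subgroup G) P ≤ V)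
    (hPV : P ≤ normalizer (V : Set G)) (hW : Flat.WW V F ≤ (S : Subgroup G)) (hm : ¬ Flat.WW V F ≤ o2 P) :
    Act S P V F := by
  have hZV : zc (S : Subgroup G) ≤ V := (MinSimple.VModule.zc_le_zl (S : Subgroup G) P).trans hLV
  have hZF := zc_le_F hf hZV hW
  have hlow : zl (S : Subgroup G) P ≤ o2 (CZ (S : Subgroup G)) :=
    zl_le_o2_of_comm h.ctx h.star h.geo.W_comm
  exact
    { char2 := h.ctx.char2
      par := h.star
      cv := h.cen
      hyp := hf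
      PV := hPV
      LE := le_EE_of_low hf hLV hZF hlow
      WS := hW
      mov := fun h1 => hm (by
        rw [← h.star.inf_centralizer S h.ctx.char2]
        exact le_inf hW h1)
      lines := fun x hx => by
        have h1 : MulAut.conj x • zl (S : Subgroup G) P ≤ WW (S : Subgroup G) P :=
          conj_zl_le_WW (centralizer_le hZF hx)
        have h2 : zl (S : Subgroup G) P ≤ WW (S : Subgroup G) P := zl_le_WW
        exact (h2.trans h.geo.W_comm).trans (centralizer_le h1) }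

end Cfsg.Agent.Omega.NO3S.BetaFF

end

end
end
end
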